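import Groth.Agent.Etdl.H512.KumLoc
import Groth.Agent.EtpbcA.CdRelLocal
import Mathlib.FieldTheory.IsAlgClosed.Basic
import Mathlib.RingTheory.RootsOfUnity.AlgebraicallyClosed

/-!
# The Kummer sequence for `G_m(m)` on the big fppf site
-/

set_option autoImplicit false
universe u
open CategoryTheory CategoryTheory.Limits AlgebraicGeometry Opposite

namespace Groth.Agent.Etdl.H512.Kummer

open GmModSec KumLoc
open Groth.Agent.Etrest Groth.Agent.Etrest.BigEtSite Groth.Agent.Etrest.BigFppf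

variable {S : Scheme.{u}}

/-- Multiplication by `n` is an epimorphism on `G_m(m)`. -/
theorem epi_nsmul {Y : Scheme.{u}} (i : Y ⟶ S) [IsClosedImmersion i] (K : Type u) [Field K] (n : ℕ)
    (hn : (n : K) ≠ 0) (ζ : K) (hζ : IsPrimitiveRoot ζ n) (f : S ⟶ Spec (CommRingCat.of K)) :
    Epi (n • 𝟙 (EtDl.GmMod i)) := by
  apply epi_of_local
  intro T s x
  obtain ⟨T', g, hg, hx, b, hb, e⟩ := exists_local_root i K n hn ζ hζ f T (mval i s) (isOne_mval i s) x
  obtain ⟨t, ht⟩ := exists_mval i b hb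
  refine ⟨T', g, hg, hx, t, ?_⟩
  rw [nsmul_id_app]
  apply mval_injective i
  rw [mval_nsmul, ht, e, mval_map]

/-- The restriction to the small étale site of an fppf sheaf. -/
noncomputable abbrev rest (N : EtFppf.AbF S) : EtCoh.Ab S := (aPushE S).obj ((toE S).obj N)

/-- The comparison map. -/
noncomputable def psi (N : EtFppf.AbF S) : (aPullE S).obj (rest N) ⟶ (toE S).obj N :=
  (aAdjE S).counit.app ((toE S).obj N)

theorem psi_sec (N : EtFppf.AbF S) {T : Over S} {U : S.Etale} (h : T ⟶ (EtFppf.a S).obj U)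
    (t : EtCoh.sect (rest N) U) :
    (psi N).hom.app (op T) (BigEtSite.sec (rest N) h t) = N.obj.map h.op t := by
  have h1 : (psi N).hom.app (op T) (BigEtSite.sec (rest N) h t) =
      N.obj.map h.op ((psi N).hom.app (op ((EtFppf.a S).obj U))
        (((aAdjE S).unit.app (rest N)).hom.app (op U) t)) :=
    NatTrans.naturality_apply (psi N).hom h.op _
  rw [h1]
  congr 1
  have h2 := (aAdjE S).right_triangle_components ((toE S).obj N)
  have h3 := congrArg (fun φ => φ.hom.app (op U)) h2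
  exact ConcreteCategory.congr_hom h3 t

section Psi

variable {Y : Scheme.{u}} (i : Y ⟶ S) [IsClosedImmersion i]
  (K : Type u) [Field K] (n : ℕ) (hn : (n : K) ≠ 0) (ζ : K) (hζ : IsPrimitiveRoot ζ n)
  (f : S ⟶ Spec (CommRingCat.of K))

include hn hζ f

omit [IsClosedImmersion i] in
theorem sec_eq_zero {T : Over S} {U : S.Etale} (h : T ⟶ (EtFppf.a S).obj U)
    (t : (NMod i n).obj.obj (op ((EtFppf.a S).obj U))) (e : (NMod i n).obj.map h.op t = 0) :
    BigEtSite.sec (rest (NMod i n)) h t = 0 := by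
  rw [BigEtSite.sec_eq_zero_iff]
  intro x
  have hpow : ((nval i n t : Γ(((EtFppf.a S).obj U).left, ⊤)ˣ) : Γ(((EtFppf.a S).obj U).left, ⊤)) ^ n = 1 := by
    rw [← Units.val_pow_eq_pow_val, nval_pow, Units.val_one]
  obtain ⟨W, k, hxW, hk⟩ := exists_open_eq_pow K n hn ζ hζ f ((EtFppf.a S).obj U) _ hpow (h.left x)
  -- restriction to the preimage of `W`
  let T0 : Over S := oSub T (h.left ⁻¹ᵁ W)
  let g0 : T0 ⟶ oSub ((EtFppf.a S).obj U) W := Over.homMk (h.left ∣_ W) (by
    change (h.left ∣_ W) ≫ W.ι ≫ ((EtFppf.a S).obj U).hom = (h.left ⁻¹ᵁ W).ι ≫ T.hom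
    rw [← Category.assoc, morphismRestrict_ι, Category.assoc, Over.w h])
  have hg0 : g0 ≫ oSubι _ W = oSubι T (h.left ⁻¹ᵁ W) ≫ h := by
    ext1
    exact morphismRestrict_ι _ _
  have h1 : (NMod i n).obj.map g0.op ((NMod i n).obj.map (oSubι _ W).op t) = 0 := by
    rw [← ConcreteCategory.comp_apply, ← Functor.map_comp, ← op_comp, hg0, op_comp, Functor.map_comp,
      ConcreteCategory.comp_apply, e, map_zero]
  have h2 : g0.left.appTop.hom (str K f (oSub ((EtFppf.a S).obj U) W) (ζ ^ k)) = 1 := by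
    rw [← hk]
    have := congrArg (nval i n) h1
    rw [nval_zero, nval_map, nval_map] at this
    exact congrArg Units.val this
  rw [str_map] at h2
  have h3 : ζ ^ k = 1 := str_injective K f T0 ⟨x, hxW⟩ (by rw [h2, map_one])
  refine ⟨Groth.Agent.CurvesA.MuConst.openSub U W, Groth.Agent.CurvesA.MuConst.openSubι U W,
    ⟨⟨h.left x, hxW⟩, rfl⟩, ?_⟩
  have h4 : (NMod i n).obj.map (oSubι ((EtFppf.a S).obj U) W).op t = 0 := by
    apply nval_injective
    rw [nval_map, nval_zero]
    apply Units.ext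
    refine hk.trans ?_
    rw [h3, map_one]
    rfl
  exact h4

omit [IsClosedImmersion i] in
theorem psi_injective (T : Over S) : Function.Injective ((psi (NMod i n)).hom.app (op T)) := by
  rw [injective_iff_map_eq_zero]
  intro s hs
  apply BigEtSite.eq_of_etale_local
  intro x
  obtain ⟨T', g, U, h, t, he, hx, e⟩ := BigEtSite.exists_sec _ s x
  refine ⟨T', g, he, hx, ?_⟩
  rw [BigEtSite.res_zero, e]
  apply sec_eq_zero i K n hn ζ hζ f
  rw [← psi_sec, ← e]
  have h1 := NatTrans.naturality_apply (psi (NMod i n)).hom g.op s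
  refine h1.trans ?_
  rw [hs, map_zero]
  rfl

variable {X : Scheme.{u}} (j : X ⟶ S) [IsOpenImmersion j]
    (hij : Set.range j.base = (Set.range i.base)ᶜ)

include hij

theorem psi_surj_local (T : Over S) (s : (NMod i n).obj.obj (op T)) (x : T.left) :
    ∃ (T' : Over S) (g : T' ⟶ T), Etale g.left ∧ x ∈ Set.range g.left ∧
      ∃ t, (psi (NMod i n)).hom.app (op T') t = (NMod i n).obj.map g.op s := by
  obtain ⟨W, hxW, hW⟩ := exists_open_torsion i K n hn ζ hζ f T (nval i n s) (nval_pow i n s)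
    (isOne_nval i n s) x
  refine ⟨oSub T W, oSubι T W, ?_, ⟨⟨x, hxW⟩, rfl⟩, ?_⟩
  · change Etale W.ι
    infer_instance
  rcases hW with hW | ⟨hWi, k, hk⟩
  · have e0 : (NMod i n).obj.map (oSubι T W).op s = 0 := by
      apply nval_injective
      rw [nval_map, hW, nval_zero]
    refine ⟨0, ?_⟩
    rw [e0, map_zero]
    rfl
  · have hn0 : n ≠ 0 := by rintro rfl; simp at hn
    let U : S.Etale := Scheme.Etale.mk j
    have hUi : ∀ y : ((EtFppf.a S).obj U).left, ((EtFppf.a S).obj U).hom y ∉ Set.range i := by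
      intro y hy
      have : j.base y ∈ Set.range j.base := ⟨y, rfl⟩
      rw [hij] at this
      exact this hy
    let q : (W : Scheme.{u}) ⟶ S := W.ι ≫ T.hom
    have hq : Set.range q ⊆ Set.range j := by
      rintro _ ⟨y, rfl⟩
      rw [hij]
      exact hWi y
    let l : (W : Scheme.{u}) ⟶ X := IsOpenImmersion.lift j q hq
    have hl : l ≫ j = q := IsOpenImmersion.lift_fac j q hq
    let h : oSub T W ⟶ (EtFppf.a S).obj U := Over.homMk l hl
    let z : Γ(((EtFppf.a S).obj U).left, ⊤)ˣ :=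
      Units.map (str K f ((EtFppf.a S).obj U)).toMonoidHom ((hζ.isUnit hn0).unit ^ k)
    have hz : z ^ n = 1 := by
      rw [← map_pow]
      have : ((hζ.isUnit hn0).unit ^ k) ^ n = 1 := by
        rw [← pow_mul, mul_comm, pow_mul]
        have : (hζ.isUnit hn0).unit ^ n = 1 := by
          apply Units.ext
          rw [Units.val_pow_eq_pow_val, Units.val_one]
          exact hζ.pow_eq_one
        rw [this, one_pow]
      rw [this, map_one]
    obtain ⟨t, ht⟩ := exists_nval i n z (isOne_of_isEmpty i _ hUi z) hz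
    refine ⟨BigEtSite.sec (rest (NMod i n)) h t, ?_⟩
    rw [psi_sec]
    apply nval_injective
    rw [nval_map, nval_map, ht]
    apply Units.ext
    refine Eq.trans ?_ hk.symm
    change h.left.appTop.hom (str K f ((EtFppf.a S).obj U) (((hζ.isUnit hn0).unit ^ k : Kˣ) : K)) = _
    rw [str_map, Units.val_pow_eq_pow_val]
    rfl

theorem isIso_psi : IsIso (psi (NMod i n)) := by
  refine (Sheaf.isLocallyBijective_iff_isIso (J := JE S) (A := AddCommGrpCat.{u + 1}) (psi (NMod i n))).1 ⟨?_, ?_⟩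
  · refine ⟨fun {T} s s' e => ?_⟩
    have : s = s' := psi_injective i K n hn ζ hζ f T.unop e
    subst this
    refine (JE S).superset_covering ?_ ((JE S).top_mem _)
    intro T' g _
    rfl
  · refine ⟨fun {T} s => ?_⟩
    rw [BigEtSite.mem_JE_iff]
    intro x
    obtain ⟨T', g, hg, hx, t, ht⟩ := psi_surj_local i K n hn ζ hζ f j hij T s x
    exact ⟨T', g, ⟨t, ht⟩, hg, hx⟩

/-- The inverse image of the restriction of `G_m(m)[n]` to the small étale site is `G_m(m)[n]`. -/
theorem nonempty_iso_aPull [EtFppf.ACont S] : Nonempty ((EtFppf.aPull S).obj (rest (NMod i n)) ≅ NMod i n) := by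
  have := isIso_psi i K n hn ζ hζ f j hij
  let e1 : (toE S).obj ((aPullF S).obj (rest (NMod i n))) ≅ (toE S).obj (NMod i n) :=
    ((aPullFCompToE S).symm.app (rest (NMod i n))) ≪≫ asIso (psi (NMod i n))
  exact ⟨(aPullIso S).app _ ≪≫ (toEFullyFaithful S).preimageIso e1⟩

/-- The restriction of `G_m(m)[n]` to the small étale site of `T ⟶ S`. -/
theorem nonempty_pull {T : Scheme.{u}} (t : T ⟶ S) :
    Nonempty ((EtCoh.pull t).obj (rest (NMod i n)) ≅ (uRes t).obj ((toE S).obj (NMod i n))) := by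
  have := isIso_psi i K n hn ζ hζ f j hij
  exact ⟨(pullIso t).app _ ≪≫ (uRes t).mapIso (asIso (psi (NMod i n)))⟩

theorem isZero_pull : IsZero ((EtCoh.pull i).obj (rest (NMod i n))) := by
  obtain ⟨e⟩ := nonempty_pull i K n hn ζ hζ f j hij i
  refine IsZero.of_iso ?_ e
  apply Groth.Agent.EtpbcA.CdRelLocal.isZero_of_forall_sect
  intro U s
  have hs : ∀ s : (NMod i n).obj.obj (op ((uf i).obj U)), s = 0 := by
    intro s
    apply nval_injective
    rw [nval_zero]
    have h1 : IsOne i _ (nval i n s) := isOne_nval i n s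
    -- `T ×_S Y ⟶ T` has a section
    let q : U.left ⟶ pullback ((uf i).obj U).hom i := pullback.lift (𝟙 _) U.hom (Category.id_comp _)
    have hq : q ≫ pullback.fst ((uf i).obj U).hom i = 𝟙 _ := pullback.lift_fst _ _ _
    apply Units.ext
    rw [Units.val_one]
    have h2 := congrArg q.appTop.hom h1
    rw [map_one] at h2
    have h3 : (q ≫ pullback.fst ((uf i).obj U).hom i).appTop.hom
        ((nval i n s : Γ(((uf i).obj U).left, ⊤)ˣ) : Γ(((uf i).obj U).left, ⊤)) = 1 := by
      rw [Scheme.Hom.comp_appTop]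
      exact h2
    rw [hq] at h3
    refine Eq.trans ?_ h3
    exact (congrArg (fun φ => φ.hom ((nval i n s : Γ(((uf i).obj U).left, ⊤)ˣ) : Γ(((uf i).obj U).left, ⊤)))
      (Scheme.Hom.id_appTop (X := ((uf i).obj U).left))).symm
  exact hs s

omit [IsClosedImmersion i] [IsOpenImmersion j] f hij in
theorem isTorsion_rest : EtCoh.IsTorsion (rest (NMod i n)) := by
  have hn0 : n ≠ 0 := by rintro rfl; simp at hn
  intro U s x
  refine ⟨U, 𝟙 U, ⟨x, rfl⟩, ?_⟩
  rw [isOfFinAddOrder_iff_nsmul_eq_zero]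
  refine ⟨n, Nat.pos_of_ne_zero hn0, ?_⟩
  have hs : ∀ s : (NMod i n).obj.obj (op ((EtFppf.a S).obj U)), n • s = 0 := by
    intro s
    apply nval_injective
    rw [nval_nsmul, nval_pow, nval_zero]
  exact hs _

theorem nonempty_const : Nonempty ((EtCoh.pull j).obj (rest (NMod i n)) ≅ EtCoh.const X (ZMod n)) := by
  obtain ⟨e⟩ := nonempty_pull i K n hn ζ hζ f j hij j
  have hn0 : n ≠ 0 := by rintro rfl; simp at hn
  have : NeZero n := ⟨hn0⟩
  have hXi : ∀ (U : X.Etale) (y : ((uf j).obj U).left), ((uf j).obj U).hom y ∉ Set.range i := by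
    intro U y hy
    have : j.base (U.hom y) ∈ Set.range j.base := ⟨_, rfl⟩
    rw [hij] at this
    exact this hy
  let u0 : Kˣ := (hζ.isUnit hn0).unit
  have hu0 : u0 ^ n = 1 := by
    apply Units.ext
    rw [Units.val_pow_eq_pow_val, Units.val_one]
    exact hζ.pow_eq_one
  let z : Γ(((uf j).obj (EtCoh.top X)).left, ⊤)ˣ :=
      Units.map (str K f ((uf j).obj (EtCoh.top X))).toMonoidHom u0
  obtain ⟨t, ht⟩ := exists_nval i n z (isOne_of_isEmpty i _ (hXi (EtCoh.top X)) z)
    (by rw [← map_pow, hu0, map_one])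
  have hnt : n • t = 0 := by
    apply nval_injective
    rw [nval_nsmul, nval_pow, nval_zero]
  let φ : ZMod n →+ (NMod i n).obj.obj (op ((uf j).obj (EtCoh.top X))) :=
    ZMod.lift n ⟨zmultiplesHom _ t, by simpa using hnt⟩
  have hφ : ∀ k : ℕ, φ (k : ZMod n) = k • t := by
    intro k
    have := ZMod.lift_coe n (⟨zmultiplesHom _ t, by simpa using hnt⟩ :
      {f : ℤ →+ (NMod i n).obj.obj (op ((uf j).obj (EtCoh.top X))) // f n = 0}) (k : ℤ)
    rw [Int.cast_natCast] at this
    refine this.trans ?_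
    change ((k : ℤ) • t) = k • t
    rw [natCast_zsmul]
  have hval : ∀ (U : X.Etale) (k : ℕ), ((nval i n ((NMod i n).obj.map
      ((uf j).map (Groth.Agent.CurvesA.MuConst.toTop U)).op (φ (k : ZMod n))) : Γ(((uf j).obj U).left, ⊤)ˣ) :
        Γ(((uf j).obj U).left, ⊤)) = str K f ((uf j).obj U) (ζ ^ k) := by
    intro U k
    rw [nval_map, hφ, nval_nsmul, ht, ← str_map K f ((uf j).map (Groth.Agent.CurvesA.MuConst.toTop U))]
    change ((uf j).map (Groth.Agent.CurvesA.MuConst.toTop U)).left.appTop.hom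
      ((z ^ k : Γ(((uf j).obj (EtCoh.top X)).left, ⊤)ˣ) : Γ(((uf j).obj (EtCoh.top X)).left, ⊤)) = _
    rw [Units.val_pow_eq_pow_val, map_pow (str K f ((uf j).obj (EtCoh.top X)))]
    rfl
  obtain ⟨e'⟩ := Groth.Agent.CurvesA.MuConst.nonempty_iso_const ((uRes j).obj ((toE S).obj (NMod i n))) (ZMod n) φ
    (by
      intro U hU m hm
      obtain ⟨k, rfl⟩ : ∃ k : ℕ, (k : ZMod n) = m := ⟨m.val, ZMod.natCast_zmod_val m⟩
      have h1 := hval U k
      have hm' : (NMod i n).obj.map ((uf j).map (Groth.Agent.CurvesA.MuConst.toTop U)).op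
        (φ (k : ZMod n)) = 0 := hm
      rw [hm', nval_zero, Units.val_one] at h1
      obtain ⟨x⟩ := hU
      have h2 : (1 : K) = ζ ^ k := str_injective K f ((uf j).obj U) x (by rw [map_one]; exact h1)
      rw [ZMod.natCast_eq_zero_iff]
      exact (hζ.pow_eq_one_iff_dvd k).1 h2.symm)
    (by
      intro U t' x
      let t'' : (NMod i n).obj.obj (op ((uf j).obj U)) := t'
      have hpow : ((nval i n t'' : Γ(((uf j).obj U).left, ⊤)ˣ) : Γ(((uf j).obj U).left, ⊤)) ^ n = 1 := by
        rw [← Units.val_pow_eq_pow_val, nval_pow, Units.val_one]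
      obtain ⟨W, k, hxW, hk⟩ := exists_open_eq_pow K n hn ζ hζ f ((uf j).obj U) _ hpow x
      refine ⟨Groth.Agent.CurvesA.MuConst.openSub U W, Groth.Agent.CurvesA.MuConst.openSubι U W,
        ⟨x, hxW⟩, (k : ZMod n), rfl, ?_⟩
      have h5 : (NMod i n).obj.map ((uf j).map (Groth.Agent.CurvesA.MuConst.openSubι U W)).op t'' =
          (NMod i n).obj.map ((uf j).map (Groth.Agent.CurvesA.MuConst.toTop
            (Groth.Agent.CurvesA.MuConst.openSub U W))).op (φ (k : ZMod n)) := by
        apply nval_injective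
        apply Units.ext
        rw [hval, nval_map]
        exact hk
      exact h5)
  exact ⟨e ≪≫ e'.symm⟩

end Psi

/-- **S3733-D** the Kummer sequence for `G_m(m)`. -/
theorem D_kummer (k : Type u) [Field k] [IsAlgClosed k]
    {Xbar Y X : Scheme.{u}} (pbar : Xbar ⟶ Spec (CommRingCat.of k)) 
    (i : Y ⟶ Xbar) [IsClosedImmersion i]
    (j : X ⟶ Xbar) [IsOpenImmersion j] (hij : Set.range j.base = (Set.range i.base)ᶜ)
    (n : ℕ) (hn : (n : k) ≠ 0) [EtFppf.ACont Xbar] :
    Epi (n • 𝟙 (EtDl.GmMod i)) ∧ ∃ K : EtCoh.Ab Xbar,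
      Nonempty ((EtCoh.pull j).obj K ≅ EtCoh.const X (ZMod n)) ∧ IsZero ((EtCoh.pull i).obj K) ∧
      EtCoh.IsTorsion K ∧ Nonempty ((EtFppf.aPull Xbar).obj K ≅ kernel (n • 𝟙 (EtDl.GmMod i))) := by
  have : NeZero (n : k) := ⟨hn⟩
  obtain ⟨ζ, hζ⟩ := HasEnoughRootsOfUnity.exists_primitiveRoot k n
  exact ⟨epi_nsmul i k n hn ζ hζ pbar, rest (NMod i n), nonempty_const i k n hn ζ hζ pbar j hij,
    isZero_pull i k n hn ζ hζ pbar j hij, isTorsion_rest i k n hn ζ hζ,
    nonempty_iso_aPull i k n hn ζ hζ pbar j hij⟩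

end Groth.Agent.Etdl.H512.Kummer
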