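import Groth.Prelude.Def_EtDlF
import Groth.Agent.Etrest.BigFppf
import Groth.Agent.CurvesA.MuConst

/-!
# Sections of `G_m`, `G_m(m)` and its `n`-torsion on the big fppf site

* `kernel_sections`: sections of a kernel of abelian sheaves on the big fppf site.
* `gval`, `mval i`, `nval i n`: sections over `T` of `G_m`, `G_m(m)`, `G_m(m)[n]` as units of `Γ(T, O_T)`.
* `epi_iff`: epimorphisms are locally surjective (one covering per point).
-/

set_option autoImplicit false
universe u
open CategoryTheory CategoryTheory.Limits AlgebraicGeometry Opposite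

namespace Groth.Agent.Etdl.H512.GmModSec

variable {S Y : Scheme.{u}}

/-- Sections over `T` as a functor. -/
noncomputable abbrev secF (T : Over S) : EtFppf.AbF S ⥤ AddCommGrpCat.{u + 1} :=
  sheafToPresheaf (EtFppf.J S) AddCommGrpCat.{u + 1} ⋙ (evaluation _ _).obj (op T)

/-- Sections of a kernel. -/
theorem kernel_sections {F G : EtFppf.AbF S} (f : F ⟶ G) (T : Over S) :
    Function.Injective ((kernel.ι f).hom.app (op T)) ∧
      ∀ s : F.obj.obj (op T), f.hom.app (op T) s = 0 → ∃ t, (kernel.ι f).hom.app (op T) t = s := by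
  have hk : IsLimit ((KernelFork.ofι _ (kernel.condition f)).map (secF T)) :=
    KernelFork.mapIsLimit _ (kernelIsKernel f) (secF T)
  have hex : (ShortComplex.mk ((secF T).map (kernel.ι f)) ((secF T).map f)
      (by rw [← Functor.map_comp, kernel.condition, Functor.map_zero])).Exact :=
    ShortComplex.exact_of_f_is_kernel _ hk
  constructor
  · have : Mono ((secF T).map (kernel.ι f)) := inferInstance
    exact (AddCommGrpCat.mono_iff_injective _).1 this
  · intro s hs
    rw [ShortComplex.ab_exact_iff] at hex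
    exact hex s hs

/-- `n • 𝟙` on sections. -/
theorem nsmul_id_app (F : EtFppf.AbF S) (n : ℕ) (T : Over S) (s : F.obj.obj (op T)) :
    (n • 𝟙 F : F ⟶ F).hom.app (op T) s = n • s := by
  have h : (n • 𝟙 F : F ⟶ F).hom.app (op T) = n • 𝟙 (F.obj.obj (op T)) := by
    have h1 := (secF T).map_nsmul (f := 𝟙 F) (n := n)
    rw [CategoryTheory.Functor.map_id] at h1
    exact h1
  rw [h]
  simp

/-- The unit underlying a section of `G_m`. -/
noncomputable def gval {T : Over S} (x : (EtDl.GmF S).obj.obj (op T)) : Γ(T.left, ⊤)ˣ :=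
  Additive.toMul (ULift.down x : Additive (Γ(T.left, ⊤)ˣ))

/-- The section of `G_m` defined by a unit. -/
noncomputable def gmk {T : Over S} (x : Γ(T.left, ⊤)ˣ) : (EtDl.GmF S).obj.obj (op T) :=
  (ULift.up (Additive.ofMul x) : ULift.{u + 1} (Additive (Γ(T.left, ⊤)ˣ)))

theorem gval_mk {T : Over S} (x : Γ(T.left, ⊤)ˣ) : gval (S := S) (T := T) (gmk x) = x := rfl

theorem gmk_val {T : Over S} (x : (EtDl.GmF S).obj.obj (op T)) : gmk (gval x) = x := rfl

theorem gval_injective {T : Over S} {x y : (EtDl.GmF S).obj.obj (op T)} (h : gval x = gval y) : x = y := by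
  rw [← gmk_val x, h, gmk_val]

theorem gval_map {T T' : Over S} (g : T' ⟶ T) (x : (EtDl.GmF S).obj.obj (op T)) :
    gval ((EtDl.GmF S).obj.map g.op x) = Units.map g.left.appTop.hom.toMonoidHom (gval x) := rfl

theorem gval_nsmul {T : Over S} (k : ℕ) (x : (EtDl.GmF S).obj.obj (op T)) :
    gval (k • x) = gval x ^ k := rfl

theorem gval_zero {T : Over S} : gval (0 : (EtDl.GmF S).obj.obj (op T)) = 1 := rfl

theorem gval_add {T : Over S} (x y : (EtDl.GmF S).obj.obj (op T)) : gval (x + y) = gval x * gval y := rfl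

variable (i : Y ⟶ S)

theorem resGmF_app {T : Over S} (x : (EtDl.GmF S).obj.obj (op T)) :
    gval (S := Y) (T := (Over.pullback i).obj T) ((EtDl.resGmF i).hom.app (op T) x) =
      Units.map (pullback.fst T.hom i).appTop.hom.toMonoidHom (gval x) := rfl

/-- A unit restricts to one on `T ×_S Y`. -/
def IsOne (T : Over S) (a : Γ(T.left, ⊤)ˣ) : Prop :=
  (pullback.fst T.hom i).appTop.hom (a : Γ(T.left, ⊤)) = 1

/-- The inclusion `G_m(m) ⟶ G_m`. -/
noncomputable def mι : EtDl.GmMod i ⟶ EtDl.GmF S := kernel.ι (EtDl.resGmF i)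

/-- The inclusion on sections. -/
noncomputable def mιs (T : Over S) : (EtDl.GmMod i).obj.obj (op T) →+ (EtDl.GmF S).obj.obj (op T) :=
  ((mι i).hom.app (op T)).hom

theorem mιs_injective (T : Over S) : Function.Injective (mιs i T) :=
  (kernel_sections (EtDl.resGmF i) T).1

theorem mιs_map {T T' : Over S} (g : T' ⟶ T) (x : (EtDl.GmMod i).obj.obj (op T)) :
    mιs i T' ((EtDl.GmMod i).obj.map g.op x) = (EtDl.GmF S).obj.map g.op (mιs i T x) :=
  NatTrans.naturality_apply (mι i).hom g.op x

theorem res_mιs {T : Over S} (x : (EtDl.GmMod i).obj.obj (op T)) :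
    (EtDl.resGmF i).hom.app (op T) (mιs i T x) =
      (0 : (EtDl.GmF Y).obj.obj (op ((Over.pullback i).obj T))) := by
  have h2 : (mι i ≫ EtDl.resGmF i).hom.app (op T) = 0 := by
    have h3 : mι i ≫ EtDl.resGmF i = 0 := kernel.condition (EtDl.resGmF i)
    rw [h3]
    rfl
  exact ConcreteCategory.congr_hom h2 x

theorem exists_mιs {T : Over S} (s : (EtDl.GmF S).obj.obj (op T))
    (h : (EtDl.resGmF i).hom.app (op T) s = (0 : (EtDl.GmF Y).obj.obj (op ((Over.pullback i).obj T)))) :
    ∃ x, mιs i T x = s :=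
  (kernel_sections (EtDl.resGmF i) T).2 s h

/-- The unit underlying a section of `G_m(m)`. -/
noncomputable def mval {T : Over S} (x : (EtDl.GmMod i).obj.obj (op T)) : Γ(T.left, ⊤)ˣ :=
  gval (mιs i T x)

theorem mval_injective {T : Over S} {x y : (EtDl.GmMod i).obj.obj (op T)} (h : mval i x = mval i y) : x = y :=
  mιs_injective i T (gval_injective h)

theorem mval_map {T T' : Over S} (g : T' ⟶ T) (x : (EtDl.GmMod i).obj.obj (op T)) :
    mval i ((EtDl.GmMod i).obj.map g.op x) = Units.map g.left.appTop.hom.toMonoidHom (mval i x) := by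
  rw [mval, mval, ← gval_map, mιs_map]

theorem mval_nsmul {T : Over S} (k : ℕ) (x : (EtDl.GmMod i).obj.obj (op T)) :
    mval i (k • x) = mval i x ^ k := by
  rw [mval, mval, map_nsmul, gval_nsmul]

theorem mval_zero {T : Over S} : mval i (0 : (EtDl.GmMod i).obj.obj (op T)) = 1 := by
  rw [mval, map_zero, gval_zero]

theorem mval_add {T : Over S} (x y : (EtDl.GmMod i).obj.obj (op T)) : mval i (x + y) = mval i x * mval i y := by
  rw [mval, mval, mval, map_add, gval_add]

theorem isOne_mval {T : Over S} (x : (EtDl.GmMod i).obj.obj (op T)) : IsOne i T (mval i x) := by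
  have h3 := congrArg (gval (S := Y) (T := (Over.pullback i).obj T)) (res_mιs i x)
  rw [resGmF_app, gval_zero] at h3
  exact congrArg Units.val h3

theorem exists_mval {T : Over S} (a : Γ(T.left, ⊤)ˣ) (h : IsOne i T a) :
    ∃ x : (EtDl.GmMod i).obj.obj (op T), mval i x = a := by
  obtain ⟨t, ht⟩ := exists_mιs i (gmk a) (by
    apply gval_injective (S := Y) (T := (Over.pullback i).obj T)
    rw [resGmF_app, gval_mk, gval_zero]
    exact Units.ext h)
  exact ⟨t, by rw [mval, ht, gval_mk]⟩

theorem IsOne.map {T T' : Over S} {a : Γ(T.left, ⊤)ˣ} (h : IsOne i T a) (g : T' ⟶ T) :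
    IsOne i T' (Units.map g.left.appTop.hom.toMonoidHom a) := by
  obtain ⟨x, rfl⟩ := exists_mval i a h
  rw [← mval_map]
  exact isOne_mval i _

variable (n : ℕ)

/-- The `n`-torsion of `G_m(m)`. -/
noncomputable abbrev NMod : EtFppf.AbF S := kernel (n • 𝟙 (EtDl.GmMod i))

/-- The inclusion `G_m(m)[n] ⟶ G_m(m)`. -/
noncomputable def nι : NMod i n ⟶ EtDl.GmMod i := kernel.ι (n • 𝟙 (EtDl.GmMod i))

/-- The inclusion on sections. -/
noncomputable def nιs (T : Over S) : (NMod i n).obj.obj (op T) →+ (EtDl.GmMod i).obj.obj (op T) :=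
  ((nι i n).hom.app (op T)).hom

theorem nιs_injective (T : Over S) : Function.Injective (nιs i n T) :=
  (kernel_sections (n • 𝟙 (EtDl.GmMod i)) T).1

theorem nιs_map {T T' : Over S} (g : T' ⟶ T) (x : (NMod i n).obj.obj (op T)) :
    nιs i n T' ((NMod i n).obj.map g.op x) = (EtDl.GmMod i).obj.map g.op (nιs i n T x) :=
  NatTrans.naturality_apply (nι i n).hom g.op x

theorem nsmul_nιs {T : Over S} (x : (NMod i n).obj.obj (op T)) : n • nιs i n T x = 0 := by
  rw [← nsmul_id_app]
  have h2 : (nι i n ≫ (n • 𝟙 (EtDl.GmMod i))).hom.app (op T) = 0 := by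
    have h3 : nι i n ≫ (n • 𝟙 (EtDl.GmMod i)) = 0 := kernel.condition _
    rw [h3]
    rfl
  exact ConcreteCategory.congr_hom h2 x

theorem exists_nιs {T : Over S} (s : (EtDl.GmMod i).obj.obj (op T)) (h : n • s = 0) :
    ∃ x, nιs i n T x = s :=
  (kernel_sections (n • 𝟙 (EtDl.GmMod i)) T).2 s ((nsmul_id_app _ n T s).trans h)

/-- The unit underlying a section of `G_m(m)[n]`. -/
noncomputable def nval {T : Over S} (x : (NMod i n).obj.obj (op T)) : Γ(T.left, ⊤)ˣ :=
  mval i (nιs i n T x)

theorem nval_injective {T : Over S} {x y : (NMod i n).obj.obj (op T)} (h : nval i n x = nval i n y) : x = y :=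
  nιs_injective i n T (mval_injective i h)

theorem nval_map {T T' : Over S} (g : T' ⟶ T) (x : (NMod i n).obj.obj (op T)) :
    nval i n ((NMod i n).obj.map g.op x) = Units.map g.left.appTop.hom.toMonoidHom (nval i n x) := by
  rw [nval, nval, ← mval_map, nιs_map]

theorem nval_nsmul {T : Over S} (k : ℕ) (x : (NMod i n).obj.obj (op T)) :
    nval i n (k • x) = nval i n x ^ k := by
  rw [nval, nval, map_nsmul, mval_nsmul]

theorem nval_zero {T : Over S} : nval i n (0 : (NMod i n).obj.obj (op T)) = 1 := by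
  rw [nval, map_zero, mval_zero]

theorem nval_add {T : Over S} (x y : (NMod i n).obj.obj (op T)) : nval i n (x + y) = nval i n x * nval i n y := by
  rw [nval, nval, nval, map_add, mval_add]

theorem isOne_nval {T : Over S} (x : (NMod i n).obj.obj (op T)) : IsOne i T (nval i n x) :=
  isOne_mval i _

theorem nval_pow {T : Over S} (x : (NMod i n).obj.obj (op T)) : nval i n x ^ n = 1 := by
  have h3 := congrArg (mval i) (nsmul_nιs i n x)
  rwa [mval_nsmul, mval_zero] at h3

theorem exists_nval {T : Over S} (a : Γ(T.left, ⊤)ˣ) (h : IsOne i T a) (ha : a ^ n = 1) :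
    ∃ x : (NMod i n).obj.obj (op T), nval i n x = a := by
  obtain ⟨y, hy⟩ := exists_mval i a h
  obtain ⟨t, ht⟩ := exists_nιs i n y (by
    apply mval_injective i
    rw [mval_nsmul, hy, ha, mval_zero])
  exact ⟨t, by rw [nval, ht, hy]⟩

/-- Epimorphisms of abelian fppf sheaves from étale-local surjectivity. -/
theorem epi_of_local {F G : EtFppf.AbF S} (φ : F ⟶ G)
    (h : ∀ (T : Over S) (s : G.obj.obj (op T)) (x : T.left), ∃ (T' : Over S) (g : T' ⟶ T), Etale g.left ∧
      x ∈ Set.range g.left ∧ ∃ t : F.obj.obj (op T'), φ.hom.app (op T') t = G.obj.map g.op s) : Epi φ := by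
  rw [← Sheaf.isLocallySurjective_iff_epi' (J := EtFppf.J S) AddCommGrpCat.{u + 1} φ]
  constructor
  intro T s
  rw [Groth.Agent.Etrest.BigEtSite.mem_J_iff]
  intro x
  obtain ⟨T', g, hg, hx, t, ht⟩ := h T s x
  exact ⟨T', g, ⟨t, ht⟩, inferInstance, inferInstance, hx⟩

end Groth.Agent.Etdl.H512.GmModSec
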