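import Groth.Agent.Etdl.H512.GmModSec
import Groth.Agent.S0108

/-!
# Local structure of `G_m(m)` : roots and torsion

`i : Y ⟶ S` closed immersion, `S` over a field `K` containing a primitive `n`-th root of unity, `n` invertible in `K`.
-/

set_option autoImplicit false
universe u
open CategoryTheory CategoryTheory.Limits AlgebraicGeometry Opposite

namespace Groth.Agent.Etdl.H512.KumLoc

open GmModSec

variable {S Y : Scheme.{u}} (i : Y ⟶ S)

/-- open subobject of an `S`-scheme -/
noncomputable abbrev oSub (T : Over S) (W : T.left.Opens) : Over S := Over.mk (W.ι ≫ T.hom)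

noncomputable abbrev oSubι (T : Over S) (W : T.left.Opens) : oSub T W ⟶ T := Over.homMk W.ι rfl

/-- `IsOne` on an open subscheme, from an open of `T ×_S Y`. -/
theorem isOne_of_open (T : Over S) (a : Γ(T.left, ⊤)ˣ) (W : T.left.Opens)
    (V : (pullback T.hom i).Opens) (hV : pullback.fst T.hom i ⁻¹ᵁ W ≤ V)
    (h : (pullback T.hom i).presheaf.map (homOfLE (le_top (a := V))).op
      ((pullback.fst T.hom i).appTop.hom (a : Γ(T.left, ⊤))) = 1) :
    IsOne i (oSub T W) (Units.map (oSubι T W).left.appTop.hom.toMonoidHom a) := by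
  let h1 : pullback (oSub T W).hom i ⟶ pullback T.hom i :=
    pullback.lift (pullback.fst _ _ ≫ W.ι) (pullback.snd _ _) (by
      rw [Category.assoc, ← pullback.condition]; rfl)
  have h1f : h1 ≫ pullback.fst T.hom i = pullback.fst (oSub T W).hom i ≫ W.ι := pullback.lift_fst _ _ _
  have hr : Set.range h1 ⊆ Set.range V.ι := by
    rw [Scheme.Opens.range_ι]
    rintro _ ⟨y, rfl⟩
    apply hV
    change pullback.fst T.hom i (h1 y) ∈ W
    rw [← Scheme.Hom.comp_apply, h1f, Scheme.Hom.comp_apply]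
    exact (pullback.fst (oSub T W).hom i y).2
  let l := IsOpenImmersion.lift V.ι h1 hr
  have hl : l ≫ V.ι = h1 := IsOpenImmersion.lift_fac _ _ _
  change (pullback.fst (oSub T W).hom i).appTop.hom (W.ι.appTop.hom (a : Γ(T.left, ⊤))) = 1
  have e1 : (pullback.fst (oSub T W).hom i).appTop.hom (W.ι.appTop.hom (a : Γ(T.left, ⊤))) =
      (pullback.fst (oSub T W).hom i ≫ W.ι).appTop.hom (a : Γ(T.left, ⊤)) := by
    rw [Scheme.Hom.comp_appTop]; rfl
  rw [e1, ← h1f, ← hl, Category.assoc, Scheme.Hom.comp_appTop, Scheme.Hom.comp_appTop]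
  change l.appTop.hom (V.ι.appTop.hom ((pullback.fst T.hom i).appTop.hom (a : Γ(T.left, ⊤)))) = 1
  have h3 : V.ι.appTop = (pullback T.hom i).presheaf.map (homOfLE (le_top (a := V))).op ≫
      (pullback T.hom i).presheaf.map (homOfLE (by simp : V.ι ''ᵁ ⊤ ≤ V)).op := by
    rw [← Functor.map_comp]
    rfl
  have e2 : V.ι.appTop.hom ((pullback.fst T.hom i).appTop.hom (a : Γ(T.left, ⊤))) = 1 := by
    rw [h3]
    change ((pullback T.hom i).presheaf.map (homOfLE (by simp : V.ι ''ᵁ ⊤ ≤ V)).op).hom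
      ((pullback T.hom i).presheaf.map (homOfLE (le_top (a := V))).op
      ((pullback.fst T.hom i).appTop.hom (a : Γ(T.left, ⊤)))) = 1
    rw [h, map_one]
  rw [e2, map_one]

/-- everything is one on a scheme not meeting `Y`. -/
theorem isOne_of_isEmpty (T : Over S) (h : ∀ x : T.left, T.hom x ∉ Set.range i) (a : Γ(T.left, ⊤)ˣ) :
    IsOne i T a := by
  have : IsEmpty ((pullback T.hom i : Scheme.{u}) : Type u) := by
    refine ⟨fun y => h (pullback.fst T.hom i y) ⟨pullback.snd T.hom i y, ?_⟩⟩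
    rw [← Scheme.Hom.comp_apply, ← Scheme.Hom.comp_apply, pullback.condition]
  have : Subsingleton Γ(pullback T.hom i, ⊤) := inferInstance
  exact Subsingleton.elim _ _

theorem mem_range_fst_iff (T : Over S) (x : T.left) :
    x ∈ Set.range (pullback.fst T.hom i) ↔ T.hom x ∈ Set.range i := by
  rw [Scheme.Pullback.range_fst]
  rfl

variable (K : Type u) [Field K] (n : ℕ) (hn : (n : K) ≠ 0) (ζ : K) (hζ : IsPrimitiveRoot ζ n)
  (f : S ⟶ Spec (CommRingCat.of K))

/-- structure map of an `S`-scheme, `S` over `Spec K`. -/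
noncomputable def str (T : Over S) : K →+* Γ(T.left, ⊤) :=
  ((T.hom ≫ f).appTop.hom).comp (Scheme.ΓSpecIso (CommRingCat.of K)).inv.hom

theorem str_map {T T' : Over S} (g : T' ⟶ T) (a : K) :
    g.left.appTop.hom (str K f T a) = str K f T' a := by
  have h : g.left ≫ T.hom = T'.hom := Over.w g
  change (((T.hom ≫ f).appTop ≫ g.left.appTop).hom ((Scheme.ΓSpecIso (CommRingCat.of K)).inv.hom a)) = _
  rw [← Scheme.Hom.comp_appTop, ← Category.assoc, h]
  rfl

include hn hζ f

/-- A unit with `a ^ n = 1` is locally a power of `ζ`. -/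
theorem exists_open_eq_pow (T : Over S) (a : Γ(T.left, ⊤)) (ha : a ^ n = 1) (x : T.left) :
    ∃ (W : T.left.Opens) (k : ℕ), x ∈ W ∧ (oSubι T W).left.appTop.hom a = str K f (oSub T W) (ζ ^ k) := by
  obtain ⟨W, k, hx, h⟩ := Groth.Agent.CurvesA.MuConst.exists_open_eq_pow K n hn ζ hζ T.left (str K f T) a ha x
  refine ⟨W, k, hx, ?_⟩
  rw [← str_map K f (oSubι T W)]
  have h3 : (oSubι T W).left.appTop = T.left.presheaf.map (homOfLE (le_top (a := W))).op ≫
      T.left.presheaf.map (homOfLE (by simp : W.ι ''ᵁ ⊤ ≤ W)).op := by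
    rw [← Functor.map_comp]
    rfl
  rw [h3]
  exact congrArg (T.left.presheaf.map (homOfLE (by simp : W.ι ''ᵁ ⊤ ≤ W)).op).hom h

omit hn hζ in
theorem str_injective (T : Over S) (x : T.left) : Function.Injective (str K f T) := by
  have : Nontrivial Γ(T.left, ⊤) := RingHom.domain_nontrivial (T.left.presheaf.germ ⊤ x trivial).hom
  exact (str K f T).injective

/-- Local structure of the sections of `G_m(m)[n]`. -/
theorem exists_open_torsion [IsClosedImmersion i] (T : Over S) (a : Γ(T.left, ⊤)ˣ) (ha : a ^ n = 1)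
    (h1 : IsOne i T a) (x : T.left) :
    ∃ (W : T.left.Opens), x ∈ W ∧ ((Units.map (oSubι T W).left.appTop.hom.toMonoidHom a = 1) ∨
      ((∀ y : (oSub T W).left, (oSub T W).hom y ∉ Set.range i) ∧ ∃ k : ℕ,
        (oSubι T W).left.appTop.hom (a : Γ(T.left, ⊤)) = str K f (oSub T W) (ζ ^ k))) := by
  have ha' : (a : Γ(T.left, ⊤)) ^ n = 1 := by
    rw [← Units.val_pow_eq_pow_val, ha, Units.val_one]
  obtain ⟨W, k, hx, hk⟩ := exists_open_eq_pow K n hn ζ hζ f T a ha' x
  by_cases hxi : T.hom x ∈ Set.range i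
  · refine ⟨W, hx, Or.inl ?_⟩
    obtain ⟨z, hz⟩ := (mem_range_fst_iff i T x).2 hxi
    -- the point of `W ×_S Y` over `x`
    have h2 := IsOne.map i h1 (oSubι T W)
    let w : (oSub T W).left := ⟨x, hx⟩
    have hw : w ∈ Set.range (pullback.fst (oSub T W).hom i) := by
      rw [mem_range_fst_iff]
      exact hxi
    obtain ⟨z', hz'⟩ := hw
    have h3 : (pullback.fst (oSub T W).hom i).appTop.hom (str K f (oSub T W) (ζ ^ k)) = 1 := by
      rw [← hk]
      exact h2
    have : Nontrivial Γ(pullback (oSub T W).hom i, ⊤) :=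
      RingHom.domain_nontrivial ((pullback (oSub T W).hom i).presheaf.germ ⊤ z' trivial).hom
    have h4 : ζ ^ k = 1 :=
      (((pullback.fst (oSub T W).hom i).appTop.hom).comp (str K f (oSub T W))).injective
        (by rw [map_one]; exact h3)
    apply Units.ext
    change (oSubι T W).left.appTop.hom (a : Γ(T.left, ⊤)) = 1
    rw [hk, h4, map_one]
  · let O : T.left.Opens := ⟨T.hom ⁻¹' (Set.range i)ᶜ,
      (IsClosedImmersion.isClosedEmbedding i).isClosed_range.isOpen_compl.preimage T.hom.continuous⟩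
    refine ⟨W ⊓ O, ⟨hx, hxi⟩, Or.inr ⟨?_, k, ?_⟩⟩
    · intro y
      exact y.2.2
    · let g : oSub T (W ⊓ O) ⟶ oSub T W := Over.homMk (T.left.homOfLE inf_le_left) (by
        change T.left.homOfLE inf_le_left ≫ W.ι ≫ T.hom = (W ⊓ O).ι ≫ T.hom
        rw [← Category.assoc, Scheme.homOfLE_ι])
      have hg : g ≫ oSubι T W = oSubι T (W ⊓ O) := by
        ext1
        exact T.left.homOfLE_ι inf_le_left
      rw [← str_map K f g, ← hk, ← hg]
      change (g.left ≫ (oSubι T W).left).appTop.hom (a : Γ(T.left, ⊤)) = _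
      rw [Scheme.Hom.comp_appTop]
      rfl

/-- `n`-th roots in `G_m(m)` exist étale-locally. -/
theorem exists_local_root [IsClosedImmersion i] (T : Over S) (a : Γ(T.left, ⊤)ˣ) (h1 : IsOne i T a)
    (x : T.left) : ∃ (T' : Over S) (g : T' ⟶ T), Etale g.left ∧ x ∈ Set.range g.left ∧
      ∃ b : Γ(T'.left, ⊤)ˣ, IsOne i T' b ∧ b ^ n = Units.map g.left.appTop.hom.toMonoidHom a := by
  have hn0 : n ≠ 0 := by rintro rfl; simp at hn
  have hnT : IsUnit (n : Γ(T.left, ⊤)) := by
    have := (IsUnit.mk0 _ hn).map (str K f T)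
    rwa [map_natCast] at this
  obtain ⟨V, g, ⟨v, hv⟩, t, ht⟩ := Groth.Agent.S0108.exists_local_root n hnT (EtCoh.top T.left) a x
  let T1 : Over S := Over.mk (V.hom ≫ T.hom)
  let g1 : T1 ⟶ T := Over.homMk g.left (by
    change g.left ≫ T.hom = V.hom ≫ T.hom
    rw [← MorphismProperty.Over.w g]
    change _ = (g.left ≫ 𝟙 _) ≫ T.hom
    rw [Category.comp_id])
  have hg1 : Etale g1.left := by
    have h : g.left ≫ (EtCoh.top T.left).hom = V.hom := MorphismProperty.Over.w g
    have h' : g.left = V.hom := by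
      rw [← h]
      exact (Category.comp_id g.left).symm
    change Etale g.left
    rw [h']
    exact V.prop
  obtain ⟨t, ht'⟩ : ∃ t : Γ(T1.left, ⊤)ˣ, (t : Γ(T1.left, ⊤)) ^ n = g1.left.appTop.hom (a : Γ(T.left, ⊤)) := ⟨t, ht⟩
  -- modify t
  have key : ∃ (W : T1.left.Opens) (k : ℕ), v ∈ W ∧ IsOne i (oSub T1 W)
      (Units.map (oSubι T1 W).left.appTop.hom.toMonoidHom
        (t * (Units.map (str K f T1).toMonoidHom ((hζ.isUnit hn0).unit⁻¹ ^ k)))) := by
    by_cases hvi : T1.hom v ∈ Set.range i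
    · obtain ⟨z, hz⟩ := (mem_range_fst_iff i T1 v).2 hvi
      let P := pullback T1.hom i
      let q : P ⟶ T1.left := pullback.fst T1.hom i
      have hq : (q.appTop.hom (t : Γ(T1.left, ⊤))) ^ n = 1 := by
        rw [← map_pow, ht']
        exact IsOne.map i h1 g1
      obtain ⟨V', k, hzV, hk⟩ := Groth.Agent.CurvesA.MuConst.exists_open_eq_pow K n hn ζ hζ P
        (q.appTop.hom.comp (str K f T1)) _ hq z
      obtain ⟨W, hW, hW'⟩ := (IsClosedImmersion.isClosedEmbedding q).isInducing.isOpen_iff.1 V'.2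
      refine ⟨⟨W, hW⟩, k, ?_, ?_⟩
      · have h5 : z ∈ q ⁻¹' W := by
          rw [hW']
          exact hzV
        have h6 : q z ∈ W := h5
        rw [hz] at h6
        exact h6
      · refine isOne_of_open i T1 _ ⟨W, hW⟩ V' ?_ ?_
        · intro y hy
          have : y ∈ q ⁻¹' W := hy
          rw [hW'] at this
          exact this
        · change (P.presheaf.map (homOfLE (le_top (a := V'))).op).hom
            (q.appTop.hom ((t : Γ(T1.left, ⊤)) * str K f T1 (((hζ.isUnit hn0).unit⁻¹ ^ k : Kˣ) : K))) = 1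
          rw [map_mul, map_mul]
          refine (congrArg (fun z => z * _) hk).trans ?_
          rw [RingHom.comp_apply]
          erw [← map_mul]
          rw [← map_mul, ← map_mul]
          have : ζ ^ k * (((hζ.isUnit hn0).unit⁻¹ ^ k : Kˣ) : K) = 1 := by
            rw [Units.val_pow_eq_pow_val, ← mul_pow]
            have : ζ * (((hζ.isUnit hn0).unit⁻¹ : Kˣ) : K) = 1 := (hζ.isUnit hn0).mul_val_inv
            rw [this, one_pow]
          rw [this, map_one, map_one, map_one]
    · let O : T1.left.Opens := ⟨T1.hom ⁻¹' (Set.range i)ᶜ,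
        (IsClosedImmersion.isClosedEmbedding i).isClosed_range.isOpen_compl.preimage T1.hom.continuous⟩
      refine ⟨O, 0, hvi, isOne_of_isEmpty i (oSub T1 O) ?_ _⟩
      rintro ⟨y, hy⟩
      exact hy
  obtain ⟨W, k, hvW, hone⟩ := key
  refine ⟨oSub T1 W, oSubι T1 W ≫ g1, ?_, ?_, _, hone, ?_⟩
  · change Etale (W.ι ≫ g1.left)
    infer_instance
  · refine ⟨⟨v, hvW⟩, ?_⟩
    change (W.ι ≫ g1.left) _ = x
    rw [Scheme.Hom.comp_apply]
    exact hv
  · rw [← map_pow, mul_pow, ← map_pow]
    have h7 : ((hζ.isUnit hn0).unit⁻¹ ^ k) ^ n = 1 := by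
      rw [← pow_mul, mul_comm, pow_mul, inv_pow]
      have : (hζ.isUnit hn0).unit ^ n = 1 := by
        apply Units.ext
        rw [Units.val_pow_eq_pow_val, Units.val_one]
        exact hζ.pow_eq_one
      rw [this, inv_one, one_pow]
    rw [h7, map_one, mul_one]
    apply Units.ext
    change (oSubι T1 W).left.appTop.hom (((t ^ n : Γ(T1.left, ⊤)ˣ)) : Γ(T1.left, ⊤)) = _
    rw [Units.val_pow_eq_pow_val, ht']
    change _ = ((oSubι T1 W).left ≫ g1.left).appTop.hom (a : Γ(T.left, ⊤))
    rw [Scheme.Hom.comp_appTop]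
    rfl

end Groth.Agent.Etdl.H512.KumLoc
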